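import Mathlib
import Cfsg.Agent.TcData.HN.A12.C0
import Cfsg.Agent.TcData.HN.A12.C1
import Cfsg.Agent.TcData.HN.A12.C2
import Cfsg.Agent.TcData.HN.A12.C3
import Cfsg.Agent.TcData.HN.A12.C4
import Cfsg.Agent.TcData.HN.A12.C5
import Cfsg.Agent.TcData.HN.A12.C6
import Cfsg.Agent.TcData.HN.A12.C7
import Cfsg.Agent.TcData.HN.A12.C8
import Cfsg.Agent.TcData.HN.A12.C9
import Cfsg.Agent.TcData.HN.A12.A0_1
import Cfsg.Agent.TcData.HN.A12.A0_2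
import Cfsg.Agent.TcData.HN.A12.A0_3
import Cfsg.Agent.TcData.HN.A12.A0_4
import Cfsg.Agent.TcData.HN.A12.A0_5
import Cfsg.Agent.TcData.HN.A12.A0_6
import Cfsg.Agent.TcData.HN.A12.A0_7
import Cfsg.Agent.TcData.HN.A12.A0_8
import Cfsg.Agent.TcData.HN.A12.A0_9
import Cfsg.Agent.TcData.HN.A12.A1_2
import Cfsg.Agent.TcData.HN.A12.A1_3
import Cfsg.Agent.TcData.HN.A12.A1_4
import Cfsg.Agent.TcData.HN.A12.A1_5
import Cfsg.Agent.TcData.HN.A12.A1_6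
import Cfsg.Agent.TcData.HN.A12.A1_7
import Cfsg.Agent.TcData.HN.A12.A1_8
import Cfsg.Agent.TcData.HN.A12.A1_9
import Cfsg.Agent.TcData.HN.A12.A2_3
import Cfsg.Agent.TcData.HN.A12.A2_4
import Cfsg.Agent.TcData.HN.A12.A2_5
import Cfsg.Agent.TcData.HN.A12.A2_6
import Cfsg.Agent.TcData.HN.A12.A2_7
import Cfsg.Agent.TcData.HN.A12.A2_8
import Cfsg.Agent.TcData.HN.A12.A2_9
import Cfsg.Agent.TcData.HN.A12.A3_4
import Cfsg.Agent.TcData.HN.A12.A3_5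
import Cfsg.Agent.TcData.HN.A12.A3_6
import Cfsg.Agent.TcData.HN.A12.A3_7
import Cfsg.Agent.TcData.HN.A12.A3_8
import Cfsg.Agent.TcData.HN.A12.A3_9
import Cfsg.Agent.TcData.HN.A12.A4_5
import Cfsg.Agent.TcData.HN.A12.A4_6
import Cfsg.Agent.TcData.HN.A12.A4_7
import Cfsg.Agent.TcData.HN.A12.A4_8
import Cfsg.Agent.TcData.HN.A12.A4_9
import Cfsg.Agent.TcData.HN.A12.A5_6
import Cfsg.Agent.TcData.HN.A12.A5_7
import Cfsg.Agent.TcData.HN.A12.A5_8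
import Cfsg.Agent.TcData.HN.A12.A5_9
import Cfsg.Agent.TcData.HN.A12.A6_7
import Cfsg.Agent.TcData.HN.A12.A6_8
import Cfsg.Agent.TcData.HN.A12.A6_9
import Cfsg.Agent.TcData.HN.A12.A7_8
import Cfsg.Agent.TcData.HN.A12.A7_9
import Cfsg.Agent.TcData.HN.A12.A8_9

set_option autoImplicit false
set_option maxRecDepth 100000
set_option linter.all false

namespace Cfsg.Agent.TcData.HN.I1539000

open Cfsg.Spor Cfsg.Agent.Lib.TcFacts Cfsg.Agent.Lib.TcBits Cfsg.Agent.Lib.TcPres Cfsg.Spor.HN Cfsg.Agent.TcData.HN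

theorem chkC : ∀ i, i < 10 → ∀ j, j < 21 → chkW (relC i) j = true := by
  intro i hi
  interval_cases i
  exacts [hC0, hC1, hC2, hC3, hC4, hC5, hC6, hC7, hC8, hC9]

theorem chkA : ∀ a b, a < b → b < 10 → ∀ j, j < 21 → chkW (relA a b) j = true := by
  intro a b hab hb
  interval_cases b <;> interval_cases a
  exacts [hA0_1, hA0_2, hA1_2, hA0_3, hA1_3, hA2_3, hA0_4, hA1_4, hA2_4, hA3_4, hA0_5, hA1_5, hA2_5, hA3_5, hA4_5, hA0_6, hA1_6, hA2_6, hA3_6, hA4_6, hA5_6, hA0_7, hA1_7, hA2_7, hA3_7, hA4_7, hA5_7, hA6_7, hA0_8, hA1_8, hA2_8, hA3_8, hA4_8, hA5_8, hA6_8, hA7_8, hA0_9, hA1_9, hA2_9, hA3_9, hA4_9, hA5_9, hA6_9, hA7_9, hA8_9]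

end Cfsg.Agent.TcData.HN.I1539000
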